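import Mathlib
import Cfsg.Agent.GH.Cov.LieL4
import Cfsg.Agent.ClassicalGeometry.PSL2Basic
import Cfsg.Agent.SignalizersComponents.SLQuasisimple
import Cfsg.Agent.SignalizersComponents.ComponentImage
import Cfsg.Agent.CTwoTab.Restr
import Cfsg.Agent.ResEven.Congr_m3
import Cfsg.Agent.OddHalf.Small.U43
import Cfsg.Agent.OddHalf.Small.Transport
import Cfsg.Agent.FastGrp
import Cfsg.Agent.Prune
set_option linter.all false
prune_inst 0x7fffbcfffffcfffeffff7e7fa7ddcdfdfdb83fffffdff9cbffe86bff1fff4b8ecdc563ad8beb92ff5ef6c21c10ea7b43ffffeeffea6fdc7ffffd5ff41ffbff8fffffb508719c88be0fbc6ff793f0778e7f3fffffffffffffffffffffffffffbeffbfffffffff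
open scoped Cfsg.Agent.FastGrp

-- part: ResEven/LFour/Facts
section
-- merged: Cfsg.Agent.ResEven.LFour.Nine
section

/-!
# `SL₂(9) ≤ SL₄(3)` (helper81)

`E` the field with nine elements, `ι ∈ E` with `ι² = -1`; `f : E → M₂(F₃)` the regular representation in the basis
`1, ι`, `f ι = J`; `Φ : M₂(E) → M₄(F₃)`.  The matrices commuting with `diag(J, J)` are the `Φ M`; `det (Φ M) = N(det M)`.
-/

set_option autoImplicit false

namespace Cfsg.Agent.ResEven.LFour

open Matrix Cfsg.Agent.GH.Cov.LieL4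

abbrev F3 := ZMod 3

/-- the field with nine elements -/
abbrev E := GaloisField 3 2

noncomputable instance : Fintype E := Fintype.ofFinite _

noncomputable instance : DecidableEq E := Classical.decEq _

theorem card_E : Fintype.card E = 9 := by
  rw [← Nat.card_eq_fintype_card, GaloisField.card 3 2 (by norm_num)]
  norm_num

theorem exists_iota : ∃ i : E, i * i = -1 := by
  have h : IsSquare (-1 : E) := by
    rw [FiniteField.isSquare_neg_one_iff, card_E]; norm_num
  obtain ⟨i, hi⟩ := h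
  exact ⟨i, hi.symm⟩

/-- a square root of `-1` -/
noncomputable def iota : E := exists_iota.choose

theorem iota_mul : iota * iota = -1 := exists_iota.choose_spec

theorem no_sq : ∀ a : F3, a * a ≠ -1 := by decide

theorem F3_cases : ∀ a : F3, a = 0 ∨ a = 1 ∨ a = -1 := by decide

theorem two_ne : (2 : F3) ≠ 0 := by decide

/-- `1` and `ι` are independent -/
theorem indep : LinearIndependent F3 ![(1 : E), iota] := by
  rw [LinearIndependent.pair_iff]
  intro a c h
  have h1 : algebraMap F3 E a + algebraMap F3 E c * iota = 0 := by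
    rw [← h, Algebra.smul_def, Algebra.smul_def, mul_one]
  by_cases hc : c = 0
  · rw [hc, map_zero, zero_mul, add_zero, map_eq_zero] at h1
    exact ⟨h1, hc⟩
  · exfalso
    have hc2 : c * c = 1 := by
      rcases F3_cases c with h2 | h2 | h2
      · exact absurd h2 hc
      · rw [h2, one_mul]
      · rw [h2]; decide
    have hce : algebraMap F3 E c * algebraMap F3 E c = 1 := by rw [← map_mul, hc2, map_one]
    have h2 : iota = algebraMap F3 E (-(c * a)) := by
      rw [map_neg, map_mul]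
      linear_combination algebraMap F3 E c * h1 - iota * hce
    have h3 : algebraMap F3 E (-(c * a) * -(c * a)) = algebraMap F3 E (-1) := by
      rw [map_mul, ← h2, iota_mul, map_neg, map_one]
    exact no_sq _ ((algebraMap F3 E).injective h3)

theorem finrank_E : Module.finrank F3 E = 2 := GaloisField.finrank 3 (by norm_num)

/-- the basis `1, ι` -/
noncomputable def bas : Module.Basis (Fin 2) F3 E :=
  basisOfLinearIndependentOfCardEqFinrank indep (by rw [finrank_E, Fintype.card_fin])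

theorem bas_zero : bas 0 = 1 := by
  rw [bas, coe_basisOfLinearIndependentOfCardEqFinrank]; rfl

theorem bas_one : bas 1 = iota := by
  rw [bas, coe_basisOfLinearIndependentOfCardEqFinrank]; rfl

/-- the elements of `E` -/
noncomputable def el (a c : F3) : E := algebraMap F3 E a + algebraMap F3 E c * iota

theorem el_eq (a c : F3) : el a c = a • bas 0 + c • bas 1 := by
  rw [bas_zero, bas_one, Algebra.smul_def, Algebra.smul_def, mul_one]; rfl

theorem repr_el_zero (a c : F3) : bas.repr (el a c) 0 = a := by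
  rw [el_eq, map_add, map_smul, map_smul, bas.repr_self, bas.repr_self]
  simp

theorem repr_el_one (a c : F3) : bas.repr (el a c) 1 = c := by
  rw [el_eq, map_add, map_smul, map_smul, bas.repr_self, bas.repr_self]
  simp

theorem exists_el (x : E) : ∃ a c, x = el a c := by
  refine ⟨bas.repr x 0, bas.repr x 1, ?_⟩
  rw [el_eq]
  have h := bas.sum_repr x
  rw [Fin.sum_univ_two] at h
  exact h.symm

/-- the regular representation -/
noncomputable def f : E →ₐ[F3] Matrix (Fin 2) (Fin 2) F3 := Algebra.leftMulMatrix bas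

theorem f_inj : Function.Injective f := Algebra.leftMulMatrix_injective bas

theorem el_mul_one (a c : F3) : el a c * bas 0 = el a c := by rw [bas_zero, mul_one]

theorem el_mul_iota (a c : F3) : el a c * bas 1 = el (-c) a := by
  rw [bas_one, el, el, map_neg]
  linear_combination algebraMap F3 E c * iota_mul

theorem f_el (a c : F3) : f (el a c) = !![a, -c; c, a] := by
  ext i j
  rw [f, Algebra.leftMulMatrix_eq_repr_mul]
  fin_cases j
  · show bas.repr (el a c * bas 0) i = _
    rw [el_mul_one]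
    fin_cases i
    · exact repr_el_zero a c
    · exact repr_el_one a c
  · show bas.repr (el a c * bas 1) i = _
    rw [el_mul_iota]
    fin_cases i
    · exact repr_el_zero _ _
    · exact repr_el_one _ _

theorem J_val : (_root_.Cfsg.Agent.GH.Cov.LieL4.J : S2 F3).1 = !![0, -1; 1, 0] := rfl

/-- the matrices commuting with `J` -/
theorem comm_J_iff (X : Matrix (Fin 2) (Fin 2) F3) (h : X * (_root_.Cfsg.Agent.GH.Cov.LieL4.J : S2 F3).1 = (_root_.Cfsg.Agent.GH.Cov.LieL4.J : S2 F3).1 * X) :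
    f (el (X 0 0) (X 1 0)) = X := by
  rw [J_val] at h
  have h00 := congrFun (congrFun h 0) 0
  have h01 := congrFun (congrFun h 0) 1
  simp only [Matrix.mul_apply, Fin.sum_univ_two, _root_.Fin.isValue, _root_.Matrix.of_apply, _root_.Matrix.cons_val', _root_.Matrix.cons_val_zero, _root_.Matrix.cons_val_fin_one, _root_.MulZeroClass.mul_zero, _root_.Matrix.cons_val_one, _root_.mul_one, _root_.zero_add, _root_.MulZeroClass.zero_mul, _root_.neg_mul, _root_.one_mul, _root_.mul_neg, _root_.add_zero, _root_.neg_inj] at h00 h01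
  rw [f_el]
  ext i j
  fin_cases i <;> fin_cases j
  · rfl
  · exact h00.symm
  · rfl
  · show X 0 0 = X 1 1
    exact h01

theorem f_comm_J (x : E) : f x * (_root_.Cfsg.Agent.GH.Cov.LieL4.J : S2 F3).1 = (_root_.Cfsg.Agent.GH.Cov.LieL4.J : S2 F3).1 * f x := by
  have : (_root_.Cfsg.Agent.GH.Cov.LieL4.J : S2 F3).1 = f (el 0 1) := by rw [f_el, J_val]
  rw [this, ← map_mul, ← map_mul, mul_comm]

/-- the norm -/
theorem f_det (a c : F3) : (f (el a c)).det = a * a + c * c := by
  rw [f_el, det_fin_two]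
  simp only [_root_.Fin.isValue, _root_.Matrix.of_apply, _root_.Matrix.cons_val', _root_.Matrix.cons_val_zero, _root_.Matrix.cons_val_fin_one, _root_.Matrix.cons_val_one, _root_.neg_mul, _root_.sub_neg_eq_add]

end Cfsg.Agent.ResEven.LFour

end

-- merged: Cfsg.Agent.ResEven.LFour.Cent
section

/-!
# `PSL₄(3)`: the centraliser of the involution `t = diag(J, J)` (helper81)

`N = im(SL₂(9) → PSL₄(3))`; the perfect subgroups of `C(t)` lie in `N`; `C(N) = im(E^*)` is cyclic;
`|C(t)|` divides `2880`.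
-/

set_option autoImplicit false

namespace Cfsg.Agent.ResEven.LFour

open Matrix Subgroup Cfsg.Agent.GH.Cov.LieL4

/-- `M₂(E) → M₄(F₃)` -/
noncomputable def Phi : Matrix (Fin 2) (Fin 2) E →+* Matrix (Fin 2 ⊕ Fin 2) (Fin 2 ⊕ Fin 2) F3 where
  toFun M := fromBlocks (f (M 0 0)) (f (M 0 1)) (f (M 1 0)) (f (M 1 1))
  map_one' := by
    simp only [one_apply_eq, ne_eq, zero_ne_one, not_false_eq_true, one_apply_ne, one_ne_zero, map_one, map_zero]
    exact fromBlocks_one
  map_mul' A B := by
    rw [fromBlocks_multiply]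
    simp only [Matrix.mul_apply, Fin.sum_univ_two, map_add, map_mul]
  map_zero' := by
    simp only [Matrix.zero_apply, map_zero]
    exact fromBlocks_zero
  map_add' A B := by
    rw [fromBlocks_add]
    simp only [Matrix.add_apply, map_add]

theorem Phi_apply (M : Matrix (Fin 2) (Fin 2) E) :
    Phi M = fromBlocks (f (M 0 0)) (f (M 0 1)) (f (M 1 0)) (f (M 1 1)) := rfl

theorem Phi_inj : Function.Injective Phi := by
  intro A B h
  rw [Phi_apply, Phi_apply, fromBlocks_inj] at h
  obtain ⟨h1, h2, h3, h4⟩ := h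
  ext i j
  fin_cases i <;> fin_cases j
  · exact f_inj h1
  · exact f_inj h2
  · exact f_inj h3
  · exact f_inj h4

/-- `Fin 2 ⊕ Fin 2 ≃ Fin 2 × Fin 2` -/
def sp : Fin 2 ⊕ Fin 2 ≃ Fin 2 × Fin 2 where
  toFun := Sum.elim (fun b => (0, b)) (fun b => (1, b))
  invFun p := if p.1 = 0 then Sum.inl p.2 else Sum.inr p.2
  left_inv := by decide
  right_inv := by decide

theorem det_Phi (M : Matrix (Fin 2) (Fin 2) E) : (Phi M).det = (f M.det).det := by
  have h := Matrix.det_det (M := M) (f := (f : E →+* Matrix (Fin 2) (Fin 2) F3))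
  refine Eq.trans ?_ h.symm
  have h2 : Phi M = ((M.map (f : E →+* Matrix (Fin 2) (Fin 2) F3)).comp (Fin 2) (Fin 2) (Fin 2) (Fin 2) F3).submatrix
      sp sp := by
    ext i j
    rcases i with i | i <;> rcases j with j | j <;> rfl
  rw [h2, det_submatrix_equiv_self]

/-- `t₀ = diag(J, J)` -/
abbrev t0 : S4 F3 := blk _root_.Cfsg.Agent.GH.Cov.LieL4.J _root_.Cfsg.Agent.GH.Cov.LieL4.J

theorem t0_val : (t0 : S4 F3).1 = fromBlocks (_root_.Cfsg.Agent.GH.Cov.LieL4.J : S2 F3).1 0 0 (_root_.Cfsg.Agent.GH.Cov.LieL4.J : S2 F3).1 := rfl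

theorem t0_sq : (t0 : S4 F3) * t0 = m1 := by rw [t0, blk_mul, J_sq]; rfl

/-- the matrices commuting with `t₀` -/
theorem exists_Phi {g : Matrix (Fin 2 ⊕ Fin 2) (Fin 2 ⊕ Fin 2) F3} (h : g * (t0 : S4 F3).1 = (t0 : S4 F3).1 * g) :
    ∃ M, g = Phi M := by
  rw [t0_val, (fromBlocks_toBlocks g).symm, fromBlocks_multiply, fromBlocks_multiply, fromBlocks_inj] at h
  simp only [Matrix.mul_zero, Matrix.zero_mul, add_zero, zero_add] at h
  obtain ⟨h1, h2, h3, h4⟩ := h
  refine ⟨!![el (g.toBlocks₁₁ 0 0) (g.toBlocks₁₁ 1 0), el (g.toBlocks₁₂ 0 0) (g.toBlocks₁₂ 1 0);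
    el (g.toBlocks₂₁ 0 0) (g.toBlocks₂₁ 1 0), el (g.toBlocks₂₂ 0 0) (g.toBlocks₂₂ 1 0)], ?_⟩
  rw [Phi_apply]
  conv_lhs => rw [(fromBlocks_toBlocks g).symm]
  congr 1
  · exact (comm_J_iff _ h1).symm
  · exact (comm_J_iff _ h2).symm
  · exact (comm_J_iff _ h3).symm
  · exact (comm_J_iff _ h4).symm

theorem Phi_comm (M : Matrix (Fin 2) (Fin 2) E) : Phi M * (t0 : S4 F3).1 = (t0 : S4 F3).1 * Phi M := by
  rw [t0_val, Phi_apply, fromBlocks_multiply, fromBlocks_multiply]
  simp only [Matrix.mul_zero, Matrix.zero_mul, add_zero, zero_add, f_comm_J]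

/-- `SL₂(9)` -/
abbrev SE := _root_.Matrix.SpecialLinearGroup (Fin 2) E

/-- `SL₂(9) → SL₄(3)` -/
noncomputable def Psi : SE →* S4 F3 where
  toFun M := ⟨Phi M.1, by rw [det_Phi, M.2, map_one, det_one]⟩
  map_one' := Subtype.ext (map_one Phi)
  map_mul' _ _ := Subtype.ext (map_mul Phi _ _)

theorem Psi_inj : Function.Injective Psi := fun A B h =>
  Subtype.ext (Phi_inj (congrArg Subtype.val h))

/-- `PSL₄(3)` -/
abbrev L := ProjectiveSpecialLinearGroup (Fin 2 ⊕ Fin 2) F3

/-- the projection -/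
def pr : S4 F3 →* L := QuotientGroup.mk' (Subgroup.center (S4 F3))

theorem pr_surj : Function.Surjective pr := QuotientGroup.mk'_surjective _

theorem mem_center' {A : S4 F3} : A ∈ Subgroup.center (S4 F3) ↔ A = 1 ∨ A = m1 := mem_center_iff no_sq A

theorem pr_m1 : pr m1 = 1 := (QuotientGroup.eq_one_iff _).2 (mem_center'.2 (Or.inr rfl))

theorem pr_eq_one_iff {A : S4 F3} : pr A = 1 ↔ A = 1 ∨ A = m1 :=
  (QuotientGroup.eq_one_iff _).trans mem_center'

theorem pr_eq_iff {A B : S4 F3} : pr A = pr B ↔ A = B ∨ A = m1 * B := by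
  rw [← mul_inv_eq_one, ← map_inv, ← map_mul, pr_eq_one_iff, mul_inv_eq_one, mul_inv_eq_iff_eq_mul]

theorem m1_val (A : S4 F3) : (m1 * A).1 = -A.1 := m1_mul A

theorem m1_ne : (m1 : S4 F3) ≠ 1 := by
  intro h
  have h1 := congrFun (congrFun (congrArg Subtype.val h) (.inl 0)) (.inl 0)
  rw [coe_m1] at h1
  simp at h1
  exact absurd h1 (by decide)

/-- the involution -/
def t : L := pr t0

theorem t_sq : t * t = 1 := by rw [t, ← map_mul, t0_sq, pr_m1]

theorem t0_ne_one : (t0 : S4 F3) ≠ 1 := by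
  intro h
  have := t0_sq
  rw [h, one_mul] at this
  exact m1_ne this.symm

theorem t0_ne_m1 : (t0 : S4 F3) ≠ m1 := by
  intro h
  have := t0_sq
  rw [h, m1_sq] at this
  exact m1_ne this.symm

theorem t_ne : t ≠ 1 := by
  rw [t, Ne, pr_eq_one_iff]
  rintro (h | h)
  · exact t0_ne_one h
  · exact t0_ne_m1 h

theorem orderOf_t : orderOf t = 2 := orderOf_eq_prime (by rw [pow_two, t_sq]) t_ne

/-- commuting in `L` -/
theorem comm_pr {A B : S4 F3} : pr A * pr B = pr B * pr A ↔ (A * B = B * A ∨ A * B = m1 * (B * A)) := by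
  rw [← map_mul, ← map_mul, pr_eq_iff]

/-- `C(t₀)` in `SL₄(3)` -/
def Dt : Subgroup (S4 F3) := centralizer {t0}

theorem mem_Dt {g : S4 F3} : g ∈ Dt ↔ g * t0 = t0 * g := mem_centralizer_singleton_iff

/-- the matrix of an element of `Dt` -/
noncomputable def rho (g : Dt) : Matrix (Fin 2) (Fin 2) E :=
  (exists_Phi (congrArg Subtype.val (mem_Dt.1 g.2))).choose

theorem Phi_rho (g : Dt) : Phi (rho g) = g.1.1 :=
  ((exists_Phi (congrArg Subtype.val (mem_Dt.1 g.2))).choose_spec).symm

/-- the determinant over `E` -/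
noncomputable def del : Dt →* E where
  toFun g := (rho g).det
  map_one' := by
    have h : rho 1 = 1 := by
      apply Phi_inj
      rw [Phi_rho, map_one]
      rfl
    rw [h, det_one]
  map_mul' g h := by
    have h1 : rho (g * h) = rho g * rho h := by
      apply Phi_inj
      rw [Phi_rho, map_mul, Phi_rho, Phi_rho]
      rfl
    rw [h1, det_mul]

theorem del_ker {g : Dt} (h : del g = 1) : g.1 ∈ Psi.range :=
  ⟨⟨rho g, h⟩, Subtype.ext (Phi_rho g)⟩

theorem Psi_mem_Dt (M : SE) : Psi M ∈ Dt := mem_Dt.2 (Subtype.ext (Phi_comm M.1))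

theorem del_comm (g h : Dt) : del (g * h * g⁻¹ * h⁻¹) = 1 := by
  have h1 : del g * del g⁻¹ = 1 := by rw [← map_mul, mul_inv_cancel, map_one]
  have h2 : del h * del h⁻¹ = 1 := by rw [← map_mul, mul_inv_cancel, map_one]
  rw [map_mul, map_mul, map_mul]
  linear_combination del h * del h⁻¹ * h1 + h2

/-- `N` -/
noncomputable def N : Subgroup L := (pr.comp Psi).range

theorem N_le : N ≤ centralizer ({t} : Set L) := by
  rintro _ ⟨M, rfl⟩
  rw [mem_centralizer_singleton_iff]
  exact comm_pr.2 (Or.inl (mem_Dt.1 (Psi_mem_Dt M)))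

/-- the perfect subgroups of `C(t)` lie in `N` -/
theorem perf_le (P : Subgroup L) (hP : P ≤ centralizer ({t} : Set L)) (hPP : ⁅P, P⁆ = P) : P ≤ N := by
  -- commutators lie in `pr Dt`
  have h1 : P ≤ Dt.map pr := by
    rw [← hPP, commutator_le]
    intro a ha b hb
    obtain ⟨A, rfl⟩ := pr_surj a
    obtain ⟨B, rfl⟩ := pr_surj b
    refine ⟨A * B * A⁻¹ * B⁻¹, ?_, by rw [commutatorElement_def]; simp only [map_mul, map_inv]⟩
    have hA := comm_pr.1 (mem_centralizer_singleton_iff.1 (hP ha))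
    have hB := comm_pr.1 (mem_centralizer_singleton_iff.1 (hP hb))
    have key : ∀ X : S4 F3, (X * t0 = t0 * X ∨ X * t0 = m1 * (t0 * X)) → ∃ c : S4 F3, (∀ Y, c * Y = Y * c) ∧
        X * t0 * X⁻¹ = c * t0 := by
      intro X hX
      rcases hX with h | h
      · exact ⟨1, fun Y => by rw [one_mul, mul_one], by rw [h, one_mul, mul_inv_cancel_right]⟩
      · exact ⟨m1, m1_comm, by rw [h, mul_assoc, mul_assoc, mul_inv_cancel, mul_one]⟩
    obtain ⟨c, hc, hc'⟩ := key A hA
    obtain ⟨d, hd, hd'⟩ := key B hB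
    have hA2 : A⁻¹ * t0 * A = c⁻¹ * t0 := by
      have h3 : A⁻¹ * (c * t0) * A = t0 := by rw [← hc']; group
      have h4 : A⁻¹ * (c * t0) * A = c * (A⁻¹ * t0 * A) := by
        rw [← mul_assoc, ← hc A⁻¹]; group
      rw [eq_inv_mul_iff_mul_eq, ← h4, h3]
    have hB2 : B⁻¹ * t0 * B = d⁻¹ * t0 := by
      have h3 : B⁻¹ * (d * t0) * B = t0 := by rw [← hd']; group
      have h4 : B⁻¹ * (d * t0) * B = d * (B⁻¹ * t0 * B) := by
        rw [← mul_assoc, ← hd B⁻¹]; group
      rw [eq_inv_mul_iff_mul_eq, ← h4, h3]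
    have hci : ∀ Y, c⁻¹ * Y = Y * c⁻¹ := fun Y => by
      rw [inv_mul_eq_iff_eq_mul, ← mul_assoc, hc Y, mul_assoc, mul_inv_cancel, mul_one]
    have hdi : ∀ Y, d⁻¹ * Y = Y * d⁻¹ := fun Y => by
      rw [inv_mul_eq_iff_eq_mul, ← mul_assoc, hd Y, mul_assoc, mul_inv_cancel, mul_one]
    rw [SetLike.mem_coe, mem_Dt, ← mul_inv_eq_iff_eq_mul]
    calc A * B * A⁻¹ * B⁻¹ * t0 * (A * B * A⁻¹ * B⁻¹)⁻¹
        = A * (B * (A⁻¹ * (B⁻¹ * t0 * B) * A) * B⁻¹) * A⁻¹ := by group
      _ = A * (B * (A⁻¹ * (d⁻¹ * t0) * A) * B⁻¹) * A⁻¹ := by rw [hB2]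
      _ = A * (B * (d⁻¹ * (A⁻¹ * t0 * A)) * B⁻¹) * A⁻¹ := by
          rw [← mul_assoc A⁻¹, ← hdi A⁻¹]; group
      _ = A * (B * (d⁻¹ * (c⁻¹ * t0)) * B⁻¹) * A⁻¹ := by rw [hA2]
      _ = d⁻¹ * (c⁻¹ * (A * (B * t0 * B⁻¹) * A⁻¹)) := by
          rw [← mul_assoc B, ← hdi B, mul_assoc d⁻¹, ← mul_assoc B, ← hci B]
          rw [show A * (d⁻¹ * (c⁻¹ * B * t0) * B⁻¹) * A⁻¹ = A * d⁻¹ * (c⁻¹ * B * t0 * B⁻¹) * A⁻¹ by group, ← hdi A]
          rw [show d⁻¹ * A * (c⁻¹ * B * t0 * B⁻¹) * A⁻¹ = d⁻¹ * (A * c⁻¹ * (B * t0 * B⁻¹) * A⁻¹) by group, ← hci A]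
          group
      _ = d⁻¹ * (c⁻¹ * (A * (d * t0) * A⁻¹)) := by rw [hd']
      _ = d⁻¹ * (c⁻¹ * (d * (A * t0 * A⁻¹))) := by
          rw [← mul_assoc A, ← hd A]; group
      _ = d⁻¹ * (c⁻¹ * (d * (c * t0))) := by rw [hc']
      _ = t0 := by
          rw [← mul_assoc c⁻¹, hci d]; group
  rw [← hPP, commutator_le]
  intro a ha b hb
  obtain ⟨A, hA, rfl⟩ := h1 ha
  obtain ⟨B, hB, rfl⟩ := h1 hb
  obtain ⟨M, hM⟩ := del_ker (del_comm ⟨A, hA⟩ ⟨B, hB⟩)
  refine ⟨M, ?_⟩
  show pr (Psi M) = _
  rw [hM, commutatorElement_def]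
  show pr (A * B * A⁻¹ * B⁻¹) = _
  simp only [map_mul, map_inv]

end Cfsg.Agent.ResEven.LFour

end

-- merged: Cfsg.Agent.ResEven.LFour.Facts
section

/-!
# `PSL₄(3)`: `N ≅ PSL₂(9)`, `C(N)`, `O(C(t)) = 1` (helper81)
-/

set_option autoImplicit false

namespace Cfsg.Agent.ResEven.LFour

open Matrix Subgroup Cfsg Cfsg.Agent.GH.Cov.LieL4 Cfsg.Agent.CTwoTab

/-- `SL₂(9) → L` -/
noncomputable def phi : SE →* L := pr.comp Psi

theorem phi_apply (M : SE) : phi M = pr (Psi M) := rfl

theorem Psi_neg_one : Psi (-1) = m1 := by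
  apply Subtype.ext
  rw [coe_m1]
  show Phi (-1 : Matrix (Fin 2) (Fin 2) E) = -1
  rw [map_neg, map_one]

theorem ker_phi : phi.ker = center SE := by
  ext A
  rw [MonoidHom.mem_ker, phi_apply, pr_eq_one_iff, ClassicalGeometry.PSL2Basic.mem_center_SL2_iff]
  constructor
  · rintro (h | h)
    · left
      exact Psi_inj (by rw [h, map_one])
    · right
      exact Psi_inj (by rw [h, Psi_neg_one])
  · rintro (rfl | rfl)
    · left; exact map_one _
    · right; exact Psi_neg_one

/-- `PSL₂(9) ≅ N` -/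
noncomputable def eN : ProjectiveSpecialLinearGroup (Fin 2) E ≃* N :=
  (QuotientGroup.quotientMulEquivOfEq ker_phi.symm).trans (QuotientGroup.quotientKerEquivRange phi)

theorem card_PSL : Nat.card (ProjectiveSpecialLinearGroup (Fin 2) E) = 360 := by
  have h := card_PSL_two E (by rw [card_E]; decide)
  rw [card_E] at h
  omega

theorem card_N : Nat.card N = 360 := by rw [← Nat.card_congr eN.toEquiv, card_PSL]

theorem card_E' : Nat.card E = 9 := by rw [Nat.card_eq_fintype_card, card_E]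

theorem simple_PSL : IsSimpleGroup (ProjectiveSpecialLinearGroup (Fin 2) E) :=
  ProjectiveSpecialLinearGroup.rank_two_simple'
    (SignalizersComponents.SLQuasisimple.exists_sq_ne_one (by rw [card_E']; norm_num))

theorem simple_N : IsSimpleGroup N :=
  haveI := simple_PSL
  eN.symm.isSimpleGroup

theorem quasi_N : IsQuasisimple N := by
  have h := SignalizersComponents.SLQuasisimple.isQuasisimple_two (F := E) (by rw [card_E']; norm_num)
  refine SignalizersComponents.ComponentImage.isQuasisimple_of_surjective h phi.rangeRestrict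
    phi.rangeRestrict_surjective ?_
  have := simple_N
  exact this.toNontrivial

theorem N_perfect : ⁅N, N⁆ = N := by
  have h1 : _root_.commutator ↥N = ⊤ := Group.isPerfect_def.1 quasi_N.1
  have h2 := congrArg (Subgroup.map N.subtype) h1
  rw [commutator_def, map_commutator, ← MonoidHom.range_eq_map, Subgroup.range_subtype] at h2
  exact h2

/-- `N` is normal in `C(t)` -/
theorem N_conj {c : L} (hc : c ∈ centralizer ({t} : Set L)) {n : L} (hn : n ∈ N) : c * n * c⁻¹ ∈ N := by
  have h : N.map (MulAut.conj c).toMonoidHom ≤ N := by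
    apply perf_le
    · rintro _ ⟨x, hx, rfl⟩
      exact mul_mem (mul_mem hc (N_le hx)) (inv_mem hc)
    · rw [← map_commutator, N_perfect]
  exact h ⟨n, hn, rfl⟩

/-! ### `C(N)` -/

/-- upper transvections -/
noncomputable def up (u : E) : SE := ⟨!![1, u; 0, 1], by simp⟩

/-- lower transvections -/
noncomputable def lo (u : E) : SE := ⟨!![1, 0; u, 1], by simp⟩

theorem up_pow (u : E) : up u ^ 3 = 1 := by
  have h3 : (3 : E) = 0 := by
    have := CharP.cast_eq_zero E 3
    exact_mod_cast this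
  apply Subtype.ext
  show (!![1, u; 0, 1] : Matrix (Fin 2) (Fin 2) E) ^ 3 = 1
  rw [pow_succ, pow_two]
  ext i j
  (revert i j; simp only [Matrix.mul_apply, Fin.sum_univ_two, _root_.Fin.forall_fin_succ, _root_.Matrix.cons_mul, _root_.Nat.succ_eq_add_one, Nat.reduceAdd, _root_.Matrix.vecMul_cons, _root_.Matrix.head_cons, _root_.one_smul, _root_.Matrix.tail_cons, _root_.Matrix.smul_cons, _root_.smul_eq_mul, _root_.MulZeroClass.mul_zero, _root_.mul_one, _root_.Matrix.smul_empty, _root_.Matrix.empty_vecMul, _root_.add_zero, _root_.Matrix.add_cons, _root_.Matrix.empty_add_empty, _root_.zero_smul, _root_.zero_add, _root_.Matrix.empty_mul, _root_.Equiv.symm_apply_apply, _root_.Matrix.of_apply, _root_.Matrix.cons_val', _root_.Matrix.cons_val_fin_one, Fin.isValue, _root_.Matrix.cons_val_zero, _root_.Matrix.cons_val_one, _root_.Matrix.cons_val_succ, _root_.IsEmpty.forall_iff, _root_.Matrix.one_apply_eq, _root_.one_mul, _root_.Fin.succ_zero_eq_one, _root_.ne_eq, _root_.zero_ne_one,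 _root_.not_false_eq_true, _root_.Matrix.one_apply_ne, _root_.Fin.succ_ne_zero, _root_.MulZeroClass.zero_mul, _root_.and_true, _root_.true_and]) <;> (repeat' with_reducible apply And.intro)
  linear_combination u * h3

theorem lo_pow (u : E) : lo u ^ 3 = 1 := by
  have h3 : (3 : E) = 0 := by
    have := CharP.cast_eq_zero E 3
    exact_mod_cast this
  apply Subtype.ext
  show (!![1, 0; u, 1] : Matrix (Fin 2) (Fin 2) E) ^ 3 = 1
  rw [pow_succ, pow_two]
  ext i j
  (revert i j; simp only [Matrix.mul_apply, Fin.sum_univ_two, _root_.Fin.forall_fin_succ, _root_.Matrix.cons_mul, _root_.Nat.succ_eq_add_one, Nat.reduceAdd, _root_.Matrix.vecMul_cons, _root_.Matrix.head_cons, _root_.one_smul, _root_.Matrix.tail_cons, _root_.zero_smul, _root_.Matrix.empty_vecMul, _root_.add_zero, _root_.Matrix.smul_cons, _root_.smul_eq_mul, _root_.mul_one, _root_.MulZeroClass.mul_zero, _root_.Matrix.smul_empty, _root_.Matrix.add_cons, _root_.zero_add, _root_.Matrix.empty_add_empty, _root_.Matrix.empty_mul,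 _root_.Equiv.symm_apply_apply, _root_.Matrix.of_apply, _root_.Matrix.cons_val', _root_.Matrix.cons_val_fin_one, Fin.isValue, _root_.Matrix.cons_val_zero, _root_.Matrix.cons_val_one, _root_.Matrix.cons_val_succ, _root_.IsEmpty.forall_iff, _root_.MulZeroClass.zero_mul, _root_.Matrix.one_apply_eq, _root_.Fin.succ_zero_eq_one, _root_.ne_eq, _root_.zero_ne_one, _root_.not_false_eq_true, _root_.Matrix.one_apply_ne, _root_.one_mul, _root_.Fin.succ_ne_zero, _root_.and_true, _root_.true_and]) <;> (repeat' with_reducible apply And.intro)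
  linear_combination u * h3

theorem comm_of_pow_three {A P : S4 F3} (h : A * P = P * A ∨ A * P = m1 * (P * A)) (h3 : P ^ 3 = 1) :
    A * P = P * A := by
  rcases h with h | h
  · exact h
  · exfalso
    have h1 : A * P * A⁻¹ = m1 * P := by rw [h, ← mul_assoc, mul_inv_cancel_right]
    have h2 : (A * P * A⁻¹) ^ 3 = 1 := by rw [conj_pow, h3, mul_one, mul_inv_cancel]
    have hc : Commute (m1 : S4 F3) P := m1_comm P
    rw [h1, hc.mul_pow, h3, mul_one, pow_succ, pow_two, m1_sq, one_mul] at h2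
    exact m1_ne h2

/-- `C(N)` -/
theorem cent_N {x : L} (hx : x ∈ centralizer (N : Set L)) : ∃ e : E, ∃ A : S4 F3, pr A = x ∧ A.1 = Phi (e • 1) := by
  obtain ⟨A, rfl⟩ := pr_surj x
  rw [mem_centralizer_iff] at hx
  have key : ∀ P : SE, P ^ 3 = 1 → A * Psi P = Psi P * A := by
    intro P hP
    have h1 : pr A * pr (Psi P) = pr (Psi P) * pr A := (hx _ ⟨P, rfl⟩).symm
    exact comm_of_pow_three (comm_pr.1 h1) (by rw [← map_pow, hP, map_one])
  have hu : ∀ u : E, A.1 * Phi (up u).1 = Phi (up u).1 * A.1 := fun u =>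
    congrArg Subtype.val (key _ (up_pow u))
  have hl : ∀ u : E, A.1 * Phi (lo u).1 = Phi (lo u).1 * A.1 := fun u =>
    congrArg Subtype.val (key _ (lo_pow u))
  have hup : ∀ u, Phi (up u).1 = fromBlocks 1 (f u) 0 1 := by
    intro u
    show fromBlocks (f 1) (f u) (f 0) (f 1) = _
    rw [map_one, map_zero]
  have hlo : ∀ u, Phi (lo u).1 = fromBlocks 1 0 (f u) 1 := by
    intro u
    show fromBlocks (f 1) (f 0) (f u) (f 1) = _
    rw [map_one, map_zero]
  have e1 : ∀ u, A.1.toBlocks₁₁ + 0 = A.1.toBlocks₁₁ + f u * A.1.toBlocks₂₁ ∧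
      A.1.toBlocks₁₁ * f u + A.1.toBlocks₁₂ = A.1.toBlocks₁₂ + f u * A.1.toBlocks₂₂ := by
    intro u
    have h := hu u
    rw [hup, eq_blocks A, fromBlocks_multiply, fromBlocks_multiply, fromBlocks_inj] at h
    simp only [Matrix.mul_one, Matrix.one_mul, Matrix.mul_zero, Matrix.zero_mul, add_zero, zero_add] at h
    exact ⟨by rw [add_zero]; exact h.1, h.2.1⟩
  have e2 : ∀ u, A.1.toBlocks₁₁ + A.1.toBlocks₁₂ * f u = A.1.toBlocks₁₁ := by
    intro u
    have h := hl u
    rw [hlo, eq_blocks A, fromBlocks_multiply, fromBlocks_multiply, fromBlocks_inj] at h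
    simp only [Matrix.mul_one, Matrix.one_mul, Matrix.mul_zero, Matrix.zero_mul, add_zero, zero_add] at h
    exact h.1
  have h21 : A.1.toBlocks₂₁ = 0 := by
    have h := (e1 1).1
    rw [map_one, Matrix.one_mul, add_right_inj] at h
    exact h.symm
  have h12 : A.1.toBlocks₁₂ = 0 := by
    have h := e2 1
    rw [map_one, Matrix.mul_one] at h
    exact add_eq_left.1 h
  have hall : ∀ u, A.1.toBlocks₁₁ * f u = f u * A.1.toBlocks₂₂ := by
    intro u
    have h := (e1 u).2
    rw [h12, add_zero, zero_add] at h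
    exact h
  have h22 : A.1.toBlocks₁₁ = A.1.toBlocks₂₂ := by
    have h := hall 1
    rwa [map_one, Matrix.mul_one, Matrix.one_mul] at h
  have hJ : A.1.toBlocks₁₁ * (_root_.Cfsg.Agent.GH.Cov.LieL4.J : S2 F3).1 = (_root_.Cfsg.Agent.GH.Cov.LieL4.J : S2 F3).1 * A.1.toBlocks₁₁ := by
    have h := hall (el 0 1)
    have h5 : (_root_.Cfsg.Agent.GH.Cov.LieL4.J : S2 F3).1 = f (el 0 1) := by rw [f_el, J_val]
    rw [← h5, ← h22] at h
    exact h
  have h11 := comm_J_iff _ hJ
  refine ⟨el (A.1.toBlocks₁₁ 0 0) (A.1.toBlocks₁₁ 1 0), A, rfl, ?_⟩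
  conv_lhs => rw [eq_blocks A, h12, h21, ← h22, ← h11]
  rw [Phi_apply]
  simp
end Cfsg.Agent.ResEven.LFour

end
end

-- part: ResEven/LFour/Core
section
-- merged: Cfsg.Agent.ResEven.FourRank
section

/-!
# `m₂(PSU₄(3)) ≥ 4`, `m₂(PSL₄(3)) ≥ 4`; `U₄(3)` is of restricted even type (helper81)

The group `⟨D₁, D₂, P₁, P₂⟩` of signed permutation matrices modulo scalars is elementary abelian of order 16.
-/

set_option autoImplicit false

namespace Cfsg.Agent.ResEven.FourRank

open Subgroup Cfsg Matrix Cfsg.Agent.ResEven.Base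

/-- the four generators, over the integers -/
def gz : Fin 4 → Matrix (Fin 4) (Fin 4) ℤ :=
  ![!![1, 0, 0, 0; 0, 1, 0, 0; 0, 0, -1, 0; 0, 0, 0, -1],
    !![1, 0, 0, 0; 0, -1, 0, 0; 0, 0, 1, 0; 0, 0, 0, -1],
    !![0, 1, 0, 0; 1, 0, 0, 0; 0, 0, 0, 1; 0, 0, 1, 0],
    !![0, 0, 1, 0; 0, 0, 0, 1; 1, 0, 0, 0; 0, 1, 0, 0]]

theorem gz_det : ∀ i, (gz i).det = 1 := by decide +kernel

theorem gz_sq : ∀ i, gz i * gz i = 1 := by decide +kernel

theorem gz_comm : ∀ i j, gz i * gz j = gz j * gz i ∨ gz i * gz j = -(gz j * gz i) := by decide +kernel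

/-- the product of the generators with `c i = true` -/
def wz (c : Fin 4 → Bool) : Matrix (Fin 4) (Fin 4) ℤ := (List.ofFn fun i => if c i then gz i else 1).prod

/-- the entries -/
def ent (c : Fin 4 → Bool) (i j : Fin 4) : ℤ := wz c i j

theorem ent_check : ∀ c : Fin 4 → Bool, (∀ i, c i = false) ∨
    (∃ i j : Fin 4, i ≠ j ∧ (ent c i j = 1 ∨ ent c i j = -1)) ∨ ∃ i j : Fin 4, ent c i i = 1 ∧ ent c j j = -1 := by
  decide +kernel

theorem wz_check (c : Fin 4 → Bool) : c = (fun _ => false) ∨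
    (∃ i j : Fin 4, i ≠ j ∧ (wz c i j = 1 ∨ wz c i j = -1)) ∨ ∃ i j : Fin 4, wz c i i = 1 ∧ wz c j j = -1 := by
  rcases ent_check c with h | h | h
  · exact Or.inl (funext h)
  · exact Or.inr (Or.inl h)
  · exact Or.inr (Or.inr h)

section

variable {F : Type*} [Field F]

/-- the generators over `F` -/
def gf (F : Type*) [Field F] (i : Fin 4) : Matrix (Fin 4) (Fin 4) F := (Int.castRingHom F).mapMatrix (gz i)

theorem gf_det (i : Fin 4) : (gf F i).det = 1 := by
  rw [gf, ← RingHom.map_det, gz_det, map_one]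

theorem gf_sq (i : Fin 4) : gf F i * gf F i = 1 := by
  rw [gf, ← map_mul, gz_sq, map_one]

theorem gf_comm (i j : Fin 4) : gf F i * gf F j = gf F j * gf F i ∨ gf F i * gf F j = -(gf F j * gf F i) := by
  rcases gz_comm i j with h | h
  · left; rw [gf, gf, ← map_mul, ← map_mul, h]
  · right; rw [gf, gf, ← map_mul, ← map_mul, h, map_neg]

theorem wf_eq (c : Fin 4 → Bool) :
    (List.ofFn fun i => if c i then gf F i else 1).prod = (Int.castRingHom F).mapMatrix (wz c) := by
  rw [wz, map_list_prod, List.map_ofFn]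
  congr 2
  funext i
  show _ = (Int.castRingHom F).mapMatrix (if c i then gz i else 1)
  split
  · rfl
  · rw [map_one]

/-- the products are not scalar -/
theorem not_scalar (h2 : (2 : F) ≠ 0) (c : Fin 4 → Bool) (a : F)
    (h : (List.ofFn fun i => if c i then gf F i else 1).prod = a • (1 : Matrix (Fin 4) (Fin 4) F)) :
    c = fun _ => false := by
  rw [wf_eq] at h
  have h' : ∀ i j, ((wz c i j : ℤ) : F) = a * (1 : Matrix (Fin 4) (Fin 4) F) i j := fun i j =>
    congrFun (congrFun h i) j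
  rcases wz_check c with h1 | ⟨i, j, hij, h1⟩ | ⟨i, j, h1, h3⟩
  · exact h1
  · exfalso
    have h4 := h' i j
    rw [one_apply_ne hij, mul_zero] at h4
    rcases h1 with h1 | h1 <;> rw [h1] at h4 <;> simp at h4
  · exfalso
    have h4 := h' i i
    have h5 := h' j j
    rw [one_apply_eq, mul_one, h1] at h4
    rw [one_apply_eq, mul_one, h3] at h5
    apply h2
    push_cast at h4 h5
    linear_combination h4 - h5

end

/-! ### `PSU₄(3)` -/

section SU

open Cfsg.Agent.LieClassical.HermSiegel Cfsg.Agent.LieClassical.SUBasic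
open Cfsg.Agent.OddHalf.Small.U43Good
open Cfsg.Agent.ClassicalGeometry.UnitAutBasic (pr pr_surjective)

variable {F : Type*} [Field F] [Fintype F]

/-- the generators in `SL₄(F)` -/
def gl (F : Type*) [Field F] (i : Fin 4) : _root_.Matrix.SpecialLinearGroup (Fin 4) F := ⟨gf F i, gf_det i⟩

omit [Fintype F] in
theorem gf_mem (i : Fin 4) : gl F i ∈ SU 4 F 3 := by
  rw [LieClassical.SUBasic.mem_SU_iff]
  intro u v
  show hermForm 4 F 3 (gf F i *ᵥ u) (gf F i *ᵥ v) = hermForm 4 F 3 u v
  unfold hermForm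
  rw [Fin.sum_univ_four, Fin.sum_univ_four]
  (revert i; simp only [gf, gz, mulVec, dotProduct, Fin.sum_univ_four, _root_.Fin.forall_fin_succ, Int.reduceNeg, Fin.isValue, _root_.RingHom.mapMatrix_apply, _root_.Int.coe_castRingHom, _root_.Matrix.map_apply, _root_.Matrix.cons_val_zero, _root_.Matrix.of_apply, _root_.Matrix.cons_val', _root_.Matrix.cons_val_fin_one, _root_.Int.cast_one, _root_.one_mul, _root_.Matrix.cons_val_one, _root_.Int.cast_zero, _root_.MulZeroClass.zero_mul, _root_.add_zero, _root_.Matrix.cons_val, _root_.zero_add, _root_.Int.cast_neg, _root_.neg_mul, _root_.Matrix.cons_val_succ, _root_.forall_const]) <;> (repeat' with_reducible apply And.intro) <;> ring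

/-- the generators in `SU₄(3)` -/
def gs (F : Type*) [Field F] [Fintype F] (i : Fin 4) : SU 4 F 3 := ⟨gl F i, gf_mem i⟩

theorem mat_gs (i : Fin 4) : mat (gs F i) = gf F i := rfl

theorem rank_psu (hF : Fintype.card F = 9) : PRankAtLeast 2 4 (PSU 4 F 3) := by
  have : Fact (Nat.Prime 3) := ⟨Nat.prime_three⟩
  have hc : CharP F 3 := charP_of_card_eq_prime_pow (f := 2) (by rw [hF]; norm_num)
  have h2 : (2 : F) ≠ 0 := by
    intro h
    have h1 : ((2 : ℕ) : F) = 0 := by exact_mod_cast h
    rw [CharP.cast_eq_zero_iff F 3] at h1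
    omega
  refine rank_of_fun (fun i => pr 4 F 3 (gs F i)) ?_ ?_ ?_
  · intro i j
    rw [← map_mul, ← map_mul]
    rcases gf_comm (F := F) i j with h | h
    · congr 1
      apply mat_injective
      rw [mat_mul, mat_mul, mat_gs, mat_gs, h]
    · symm
      refine pr_eq_of_mat (c := -1) ?_
      rw [mat_mul, mat_mul, mat_gs, mat_gs, h, neg_smul, one_smul]
  · intro i
    rw [← map_mul, ← map_one (pr 4 F 3)]
    congr 1
    apply mat_injective
    rw [mat_mul, mat_gs, gf_sq, mat_one]
  · intro c hc1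
    have h3 : (List.ofFn fun i => if c i then pr 4 F 3 (gs F i) else 1).prod =
        pr 4 F 3 (List.ofFn fun i => if c i then gs F i else 1).prod := by
      rw [map_list_prod, List.map_ofFn]
      congr 2
      funext i
      show _ = pr 4 F 3 (if c i then gs F i else 1)
      split
      · rfl
      · rw [map_one]
    rw [h3, ← map_one (pr 4 F 3)] at hc1
    obtain ⟨a, -, ha⟩ := mat_of_pr_eq hF hc1.symm
    rw [mat_one] at ha
    apply not_scalar h2 c a
    have h4 : mat (List.ofFn fun i => if c i then gs F i else 1).prod =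
        (List.ofFn fun i => if c i then gf F i else 1).prod := by
      have key : ∀ l : List (Fin 4), mat (l.map fun i => if c i then gs F i else 1).prod =
          (l.map fun i => if c i then gf F i else 1).prod := by
        intro l
        induction l with
        | nil => exact mat_one
        | cons i l ih =>
          rw [List.map_cons, List.map_cons, List.prod_cons, List.prod_cons, mat_mul, ih]
          congr 1
          split
          · rfl
          · exact mat_one
      have := key (List.ofFn id)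
      rwa [List.map_ofFn, List.map_ofFn] at this
    rw [← h4, ha]

end SU

end Cfsg.Agent.ResEven.FourRank

end

-- merged: Cfsg.Agent.ResEven.LFour.Core
section

/-!
# `PSL₄(3)`: `C(N)` is a cyclic 2-group, `O(C(t)) = 1`, `m₂(C(t)) ≥ 4`, `|C(t)| < 5760` (helper81)
-/

set_option autoImplicit false

namespace Cfsg.Agent.ResEven.LFour

open Matrix Subgroup Cfsg Cfsg.Agent.GH.Cov.LieL4 Cfsg.Agent.CTwoTab

theorem ne_zero_of {e : E} {A : S4 F3} (h : A.1 = Phi (e • 1)) : e ≠ 0 := by
  rintro rfl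
  rw [zero_smul, map_zero] at h
  have h1 := A.2
  rw [h, det_zero] at h1
  exact zero_ne_one h1

theorem scal_mul (e e' : E) : (e • (1 : Matrix (Fin 2) (Fin 2) E)) * (e' • 1) = (e * e') • 1 := by
  rw [smul_mul_smul_comm, one_mul]

theorem scal_pow (e : E) (n : ℕ) : (e • (1 : Matrix (Fin 2) (Fin 2) E)) ^ n = (e ^ n) • 1 := by
  rw [smul_pow, one_pow]

theorem pow_val (A : S4 F3) (n : ℕ) : (A ^ n).1 = A.1 ^ n := by
  induction n with
  | zero => rfl
  | succ n ih => rw [pow_succ, pow_succ, ← ih]; rfl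

/-- `C(N)` is a 2-group -/
theorem cent_N_pow {x : L} (hx : x ∈ centralizer (N : Set L)) : x ^ 8 = 1 := by
  obtain ⟨e, A, rfl, hA⟩ := cent_N hx
  have h8 : e ^ 8 = 1 := by
    have := FiniteField.pow_card_sub_one_eq_one e (ne_zero_of hA)
    rwa [card_E] at this
  have : A ^ 8 = 1 := by
    apply Subtype.ext
    rw [pow_val, hA, ← map_pow, scal_pow, h8, one_smul, map_one]
    rfl
  rw [← map_pow, this, map_one]

theorem f_iota : f iota = (_root_.Cfsg.Agent.GH.Cov.LieL4.J : S2 F3).1 := by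
  have h1 : (_root_.Cfsg.Agent.GH.Cov.LieL4.J : S2 F3).1 = f (el 0 1) := by rw [f_el, J_val]
  rw [h1, el, map_zero, map_one, zero_add, one_mul]

theorem Phi_iota : Phi (iota • 1) = (t0 : S4 F3).1 := by
  rw [t0_val, Phi_apply]
  simp [f_iota]

/-- the involutions of `C(N)` -/
theorem cent_N_sq {x : L} (hx : x ∈ centralizer (N : Set L)) (h2 : x * x = 1) : x = 1 ∨ x = t := by
  obtain ⟨e, A, rfl, hA⟩ := cent_N hx
  rw [← map_mul, pr_eq_one_iff] at h2
  have hAA : (A * A).1 = Phi ((e * e) • 1) := by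
    show A.1 * A.1 = _
    rw [hA, ← map_mul, scal_mul]
  have inj : ∀ a b : E, Phi (a • 1) = Phi (b • 1) → a = b := by
    intro a b h
    have h1 := congrFun (congrFun (Phi_inj h) 0) 0
    simpa using h1
  rcases h2 with h2 | h2
  · left
    have h3 : e * e = 1 := by
      apply inj
      rw [← hAA, h2, one_smul, map_one]
      rfl
    rw [pr_eq_one_iff]
    rcases mul_self_eq_one_iff.1 h3 with rfl | rfl
    · left
      apply Subtype.ext
      rw [hA, one_smul, map_one]
      rfl
    · right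
      apply Subtype.ext
      rw [hA, coe_m1, neg_smul, one_smul, map_neg, map_one]
  · right
    have h3 : e * e = iota * iota := by
      apply inj
      rw [← hAA, h2, iota_mul, neg_smul, one_smul, map_neg, map_one, coe_m1]
    rw [t, pr_eq_iff]
    rcases mul_self_eq_mul_self_iff.1 h3 with rfl | rfl
    · left
      apply Subtype.ext
      rw [hA, Phi_iota]
    · right
      apply Subtype.ext
      rw [hA, m1_val, neg_smul, map_neg, Phi_iota]

/-- `O(C(t)) = 1` -/
theorem core_t : centralizerPPrimeCore 2 t = ⊥ := by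
  rw [centralizerPPrimeCore_eq_bot_iff]
  set C := centralizer ({t} : Set L) with hC
  have hQn : (pPrimeCore 2 ↥C).Normal := Lib.Cores.pPrimeCore_normal 2
  have hodd : (Nat.card ↥(pPrimeCore 2 ↥C)).Coprime 2 := Lib.Cores.pPrimeCore_coprime 2
  have hNn : (N.subgroupOf C).Normal := ⟨fun n hn g => N_conj g.2 hn⟩
  have hN := simple_N
  have hdis : Disjoint (N.subgroupOf C) (pPrimeCore 2 ↥C) := by
    have h1 : ((pPrimeCore 2 ↥C).comap (Subgroup.inclusion N_le)).Normal := hQn.comap _
    rcases h1.eq_bot_or_eq_top with h2 | h2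
    · rw [disjoint_iff, eq_bot_iff]
      rintro x ⟨hx1, hx2⟩
      have h3 : (⟨x.1, hx1⟩ : N) ∈ (pPrimeCore 2 ↥C).comap (Subgroup.inclusion N_le) := hx2
      rw [h2, mem_bot] at h3
      exact mem_bot.2 (Subtype.ext (congrArg (fun y : N => (y : L)) h3))
    · exfalso
      have h3 : N.subgroupOf C ≤ pPrimeCore 2 ↥C := by
        intro x hx
        have h4 : (⟨x.1, hx⟩ : N) ∈ (pPrimeCore 2 ↥C).comap (Subgroup.inclusion N_le) := by
          rw [h2]; exact mem_top _
        exact h4
      have h5 := card_dvd_of_le h3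
      rw [Nat.card_congr (subgroupOfEquivOfLe N_le).toEquiv, card_N] at h5
      have h6 : 2 ∣ Nat.card ↥(pPrimeCore 2 ↥C) := dvd_trans (by norm_num) h5
      exact absurd (hodd.symm.eq_one_of_dvd h6) (by norm_num)
  have hcomm := Subgroup.commute_of_normal_of_disjoint _ _ hNn hQn hdis
  rw [eq_bot_iff]
  intro x hx
  have h1 : (x : L) ∈ centralizer (N : Set L) := by
    rw [mem_centralizer_iff]
    intro n hn
    exact congrArg Subtype.val (hcomm ⟨n, N_le hn⟩ x (mem_subgroupOf.2 hn) hx).eq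
  have h2 : x ^ 8 = 1 := Subtype.ext (cent_N_pow h1)
  have h3 : orderOf x ∣ 2 ^ 3 := orderOf_dvd_of_pow_eq_one h2
  have h4 : orderOf (⟨x, hx⟩ : ↥(pPrimeCore 2 ↥C)) ∣ Nat.card ↥(pPrimeCore 2 ↥C) := _root_.orderOf_dvd_natCard _
  rw [← Subgroup.orderOf_coe] at h4
  have h5 : orderOf x = 1 :=
    Nat.eq_one_of_dvd_coprimes (Nat.Coprime.pow_left 3 hodd.symm) h3 h4
  exact mem_bot.2 (orderOf_eq_one_iff.1 h5)

theorem rankLE_cent_N : PRankLE 2 1 ↥(centralizer (N : Set L)) := by
  intro A hA hp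
  have h1 : Nat.card A ≤ Nat.card Bool := by
    classical
    refine Nat.card_le_card_of_injective (fun a : A => decide (a.1.1 = 1)) fun a b h => ?_
    have key : ∀ a : A, a.1.1 = 1 ∨ a.1.1 = t := by
      intro a
      refine cent_N_sq a.1.2 ?_
      have := hp a.1 a.2
      rw [pow_two] at this
      exact congrArg Subtype.val this
    have h' : (a.1.1 = 1) ↔ (b.1.1 = 1) := decide_eq_decide.1 h
    apply Subtype.ext
    apply Subtype.ext
    rcases key a with h1 | h1 <;> rcases key b with h2 | h2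
    · rw [h1, h2]
    · exact absurd (h'.1 h1) (by rw [h2]; exact t_ne)
    · exact absurd (h'.2 h2) (by rw [h1]; exact t_ne)
    · rw [h1, h2]
  simpa only [_root_.pow_one, _root_.ge_iff_le, _root_.Nat.card_eq_fintype_card, _root_.Fintype.card_bool] using h1

theorem rank_cent_N : PRankAtLeast 2 1 ↥(centralizer (N : Set L)) := by
  have ht : t ∈ centralizer (N : Set L) := by
    rw [mem_centralizer_iff]
    intro n hn
    exact mem_centralizer_singleton_iff.1 (N_le hn)
  refine ⟨zpowers ⟨t, ht⟩, inferInstance, ?_, ?_⟩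
  · intro a ha
    obtain ⟨k, rfl⟩ := mem_zpowers_iff.1 ha
    rw [← zpow_natCast, ← _root_.zpow_mul, mul_comm, _root_.zpow_mul]
    have : (⟨t, ht⟩ : ↥(centralizer (N : Set L))) ^ (2 : ℕ) = 1 := Subtype.ext (by
      show t ^ 2 = 1
      rw [pow_two, t_sq])
    rw [zpow_natCast, this, _root_.one_zpow]
  · rw [Nat.card_zpowers, ← Subgroup.orderOf_coe, orderOf_t]
    norm_num

/-! ### rank -/

/-- `Fin 2 ⊕ Fin 2 ≃ Fin 4` -/
def fe : Fin 2 ⊕ Fin 2 ≃ Fin 4 := finSumFinEquiv

theorem sub_inj {M M' : Matrix (Fin 4) (Fin 4) F3} (h : M.submatrix fe fe = M'.submatrix fe fe) : M = M' :=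
  (reindex fe.symm fe.symm).injective h

theorem sub_mul (M M' : Matrix (Fin 4) (Fin 4) F3) :
    (M * M').submatrix fe fe = M.submatrix fe fe * M'.submatrix fe fe := (submatrix_mul_equiv M M' _ fe _).symm

/-- the generators of the elementary abelian group of order 16 -/
def gq (i : Fin 4) : S4 F3 := ⟨(FourRank.gf F3 i).submatrix fe fe, by
  rw [det_submatrix_equiv_self, FourRank.gf_det]⟩

theorem gq_val (i : Fin 4) : (gq i).1 = (FourRank.gf F3 i).submatrix fe fe := rfl

theorem gq_sq (i : Fin 4) : gq i * gq i = 1 := by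
  apply Subtype.ext
  show (gq i).1 * (gq i).1 = 1
  rw [gq_val, submatrix_mul_equiv, FourRank.gf_sq, submatrix_one_equiv]

theorem gq_comm (i j : Fin 4) : gq i * gq j = gq j * gq i ∨ gq i * gq j = m1 * (gq j * gq i) := by
  rcases FourRank.gf_comm (F := F3) i j with h | h
  · left
    apply Subtype.ext
    show (gq i).1 * (gq j).1 = (gq j).1 * (gq i).1
    rw [gq_val, gq_val, submatrix_mul_equiv, submatrix_mul_equiv, h]
  · right
    apply Subtype.ext
    rw [m1_val]
    show (gq i).1 * (gq j).1 = -((gq j).1 * (gq i).1)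
    rw [gq_val, gq_val, submatrix_mul_equiv, submatrix_mul_equiv, h]
    rfl

theorem t0_eq : (t0 : S4 F3) = gq 2 * gq 1 := by
  apply Subtype.ext
  show (t0 : S4 F3).1 = (gq 2).1 * (gq 1).1
  rw [gq_val, gq_val, submatrix_mul_equiv, t0_val, J_val]
  ext i j
  rcases i with i | i <;> rcases j with j | j <;> (revert i j; simp only [FourRank.gf, FourRank.gz, Matrix.mul_apply, Fin.sum_univ_four, fe, finSumFinEquiv, _root_.Fin.forall_fin_succ, _root_.Matrix.fromBlocks_apply₁₁, _root_.Matrix.of_apply, _root_.Matrix.cons_val', _root_.Matrix.cons_val_fin_one, Int.reduceNeg, Fin.isValue, _root_.Matrix.cons_val, _root_.RingHom.mapMatrix_apply, _root_.Int.coe_castRingHom, _root_.Matrix.cons_val_one, _root_.Matrix.cons_val_zero, Nat.reduceAdd, _root_.Equiv.coe_fn_mk, _root_.Matrix.submatrix_apply, _root_.Sum.elim_inl, _root_.Matrix.map_apply, Fin.reduceCastAdd, _root_.Int.cast_one, _root_.mul_one, _root_.Int.cast_zero, _root_.MulZeroClass.mul_zero, _root_.add_zero, _root_.Matrix.cons_val_succ,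 _root_.Fin.succ_zero_eq_one, _root_.Int.cast_neg, _root_.mul_neg, _root_.zero_add, _root_.IsEmpty.forall_iff, _root_.and_true, _root_.and_self, _root_.zero_eq_neg, _root_.Matrix.fromBlocks_apply₁₂, _root_.Matrix.zero_apply, _root_.Sum.elim_inr, _root_.Fin.natAdd_eq_addNat, Fin.reduceAddNat, _root_.Matrix.fromBlocks_apply₂₁, _root_.Matrix.fromBlocks_apply₂₂])

theorem pr_comm (i j : Fin 4) : pr (gq i) * pr (gq j) = pr (gq j) * pr (gq i) := comm_pr.2 (gq_comm i j)

theorem pr_mem (i : Fin 4) : pr (gq i) ∈ centralizer ({t} : Set L) := by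
  rw [mem_centralizer_singleton_iff, t, t0_eq, map_mul, ← mul_assoc, pr_comm i 2, mul_assoc, pr_comm i 1, mul_assoc]

theorem rank_cent : PRankAtLeast 2 4 ↥(centralizer ({t} : Set L)) := by
  refine Base.rank_of_fun (fun i => (⟨pr (gq i), pr_mem i⟩ : ↥(centralizer ({t} : Set L)))) ?_ ?_ ?_
  · intro i j
    exact Subtype.ext (pr_comm i j)
  · intro i
    apply Subtype.ext
    show pr (gq i) * pr (gq i) = 1
    rw [← map_mul, gq_sq, map_one]
  · intro c hc1
    have h1 : pr (List.ofFn fun i => if c i then gq i else 1).prod = 1 := by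
      have h2 := congrArg (centralizer ({t} : Set L)).subtype hc1
      rw [map_one, map_list_prod, List.map_ofFn] at h2
      rw [map_list_prod, List.map_ofFn, ← h2]
      congr 2
      funext i
      show pr (if c i then gq i else 1) = (centralizer ({t} : Set L)).subtype (if c i then _ else 1)
      split
      · rfl
      · rw [map_one, map_one]
    have h3 : ((List.ofFn fun i => if c i then gq i else 1).prod : S4 F3).1 =
        ((List.ofFn fun i => if c i then FourRank.gf F3 i else 1).prod).submatrix fe fe := by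
      have key : ∀ l : List (Fin 4), ((l.map fun i => if c i then gq i else 1).prod : S4 F3).1 =
          ((l.map fun i => if c i then FourRank.gf F3 i else 1).prod).submatrix fe fe := by
        intro l
        induction l with
        | nil =>
          show (1 : Matrix (Fin 2 ⊕ Fin 2) (Fin 2 ⊕ Fin 2) F3) = (1 : Matrix (Fin 4) (Fin 4) F3).submatrix _ _
          rw [submatrix_one_equiv]
        | cons i l ih =>
          rw [List.map_cons, List.map_cons, List.prod_cons, List.prod_cons, sub_mul, ← ih]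
          show (if c i then gq i else 1 : S4 F3).1 * ((l.map fun i => if c i then gq i else 1).prod : S4 F3).1 = _
          congr 1
          split
          · rfl
          · rw [submatrix_one_equiv]; rfl
      have := key (List.ofFn id)
      rwa [List.map_ofFn, List.map_ofFn] at this
    rw [pr_eq_one_iff] at h1
    obtain ⟨a, ha⟩ : ∃ a : F3, (List.ofFn fun i => if c i then FourRank.gf F3 i else 1).prod =
        a • (1 : Matrix (Fin 4) (Fin 4) F3) := by
      rcases h1 with h1 | h1
      · refine ⟨1, sub_inj ?_⟩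
        rw [← h3, h1, one_smul, submatrix_one_equiv]
        rfl
      · refine ⟨-1, sub_inj ?_⟩
        rw [← h3, h1, coe_m1, neg_smul, one_smul]
        show -1 = -((1 : Matrix (Fin 4) (Fin 4) F3).submatrix fe fe)
        rw [submatrix_one_equiv]
    exact FourRank.not_scalar two_ne c a ha

/-! ### the order of `C(t)` -/

/-- a bound for the order of a group from the fibres of a map -/
theorem card_le_of_fibres {G T : Type*} [Group G] [Finite G] [Finite T] (R : Subgroup G) (F : G → T)
    (h : ∀ g g' : G, F g = F g' → g * g'⁻¹ ∈ R) : Nat.card G ≤ Nat.card T * Nat.card R := by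
  classical
  rw [← Nat.card_prod]
  let rep : T → G := fun x => if hx : ∃ g, F g = x then hx.choose else 1
  have hrep : ∀ g, F (rep (F g)) = F g := by
    intro g
    have hx : ∃ g', F g' = F g := ⟨g, rfl⟩
    show F (if hx : ∃ g', F g' = F g then hx.choose else 1) = F g
    rw [dif_pos hx]
    exact hx.choose_spec
  refine Nat.card_le_card_of_injective
    (fun g => ((F g, ⟨g * (rep (F g))⁻¹, h _ _ (hrep g).symm⟩) : T × R)) fun g g' hg => ?_
  have h1 : F g = F g' := congrArg Prod.fst hg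
  have h2 : g * (rep (F g))⁻¹ = g' * (rep (F g'))⁻¹ := congrArg (fun y : T × R => (y.2 : G)) hg
  rw [h1] at h2
  exact mul_right_cancel h2

/-- `diag(1, -1, 1, -1)`, anticommuting with `t₀` -/
theorem anti : gq 1 * t0 = m1 * (t0 * gq 1) := by
  apply Subtype.ext
  rw [m1_val]
  show (gq 1).1 * (t0 : S4 F3).1 = -((t0 : S4 F3).1 * (gq 1).1)
  rw [gq_val, t0_val, J_val]
  ext i j
  rcases i with i | i <;> rcases j with j | j <;> (revert i j; simp only [FourRank.gf, FourRank.gz, Matrix.mul_apply, Fintype.sum_sum_type, Fin.sum_univ_two, fe, finSumFinEquiv, _root_.Fin.forall_fin_succ, Int.reduceNeg, Fin.isValue, _root_.Matrix.cons_val_one, _root_.Matrix.cons_val_zero, _root_.RingHom.mapMatrix_apply, _root_.Int.coe_castRingHom, Nat.reduceAdd, _root_.Equiv.coe_fn_mk, _root_.Matrix.submatrix_apply, _root_.Sum.elim_inl, _root_.Matrix.map_apply, _root_.Matrix.of_apply, _root_.Matrix.cons_val', _root_.Matrix.cons_val_fin_one, _root_.Matrix.fromBlocks_apply₁₁, Fin.reduceCastAdd, _root_.Sum.elim_inr,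 _root_.Fin.natAdd_eq_addNat, _root_.Matrix.fromBlocks_apply₂₁, _root_.Matrix.zero_apply, _root_.MulZeroClass.mul_zero, _root_.Finset.sum_const_zero, _root_.add_zero, _root_.Matrix.neg_apply, _root_.Matrix.fromBlocks_apply₁₂, _root_.MulZeroClass.zero_mul, _root_.neg_add_rev, _root_.mul_one, _root_.zero_add, _root_.Int.cast_zero, _root_.neg_zero, _root_.Int.cast_one, _root_.Matrix.cons_val_succ, _root_.mul_neg, _root_.Fin.succ_zero_eq_one, _root_.Int.cast_neg, _root_.neg_neg, _root_.IsEmpty.forall_iff, _root_.and_true, _root_.and_self, _root_.neg_eq_zero, _root_.Matrix.fromBlocks_apply₂₂, Fin.reduceAddNat, _root_.Matrix.cons_val])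

/-- the preimage of `C(t)` -/
def H : Subgroup (S4 F3) := (centralizer ({t} : Set L)).comap pr

theorem mem_H {A : S4 F3} : A ∈ H ↔ (A * t0 = t0 * A ∨ A * t0 = m1 * (t0 * A)) :=
  mem_centralizer_singleton_iff.trans comm_pr

/-- the elements of norm 1 -/
abbrev Nm := {e : E // (f e).det = 1}

theorem card_Nm : Nat.card Nm ≤ 4 := by
  let E1 := {x : F3 × F3 // x.1 * x.1 + x.2 * x.2 = 1}
  have h1 : Nat.card E1 = 4 := by
    rw [Nat.card_eq_fintype_card]
    decide
  rw [← h1]
  refine Nat.card_le_card_of_surjective (fun x : E1 => (⟨el x.1.1 x.1.2, by rw [f_det]; exact x.2⟩ : Nm)) ?_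
  rintro ⟨e, he⟩
  obtain ⟨a, c, rfl⟩ := exists_el e
  exact ⟨⟨(a, c), by rw [f_det] at he; exact he⟩, rfl⟩

theorem del_norm (g : Dt) : (f (del g)).det = 1 := by
  show (f (rho g).det).det = 1
  rw [← det_Phi, Phi_rho]
  exact g.1.2

theorem range_le : Psi.range ≤ H := by
  rintro _ ⟨M, rfl⟩
  exact mem_H.2 (Or.inl (mem_Dt.1 (Psi_mem_Dt M)))

theorem mul_mem_Dt {g : S4 F3} (hg : g ∈ H) (h : g ∉ Dt) : g * gq 1 ∈ Dt := by
  have h1 : g * t0 = m1 * (t0 * g) := (mem_H.1 hg).resolve_left fun h' => h (mem_Dt.2 h')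
  rw [mem_Dt]
  calc g * gq 1 * t0 = g * (gq 1 * t0) := mul_assoc _ _ _
    _ = g * (m1 * (t0 * gq 1)) := by rw [anti]
    _ = g * m1 * (t0 * gq 1) := (mul_assoc _ _ _).symm
    _ = m1 * g * (t0 * gq 1) := by rw [m1_comm]
    _ = m1 * (g * t0) * gq 1 := by group
    _ = m1 * (m1 * (t0 * g)) * gq 1 := by rw [h1]
    _ = (m1 * m1) * (t0 * g) * gq 1 := by rw [← mul_assoc m1 m1]
    _ = t0 * (g * gq 1) := by rw [m1_sq, one_mul, mul_assoc]

theorem range_of_del {g g' : Dt} (h : del g = del g') : g.1 * g'.1⁻¹ ∈ Psi.range := by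
  have h1 : del (g * g'⁻¹) = 1 := by rw [map_mul, h, ← map_mul, mul_inv_cancel, map_one]
  have h2 := del_ker h1
  rw [Subgroup.coe_mul, Subgroup.coe_inv] at h2
  exact h2

/-- the determinant as an element of norm 1 -/
noncomputable def dN (g : Dt) : Nm := ⟨del g, del_norm g⟩

theorem range_of_dN {g g' : Dt} (h : dN g = dN g') : g.1 * g'.1⁻¹ ∈ Psi.range :=
  range_of_del (Subtype.ext_iff.1 h)

open Classical in
/-- the map -/
noncomputable def F1 (g : H) : Bool × Nm :=
  if h : g.1 ∈ Dt then (true, dN ⟨g.1, h⟩) else (false, dN ⟨g.1 * gq 1, mul_mem_Dt g.2 h⟩)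

theorem F1_pos {g : H} (h : g.1 ∈ Dt) : F1 g = (true, dN ⟨g.1, h⟩) := dif_pos h

theorem F1_neg {g : H} (h : g.1 ∉ Dt) : F1 g = (false, dN ⟨g.1 * gq 1, mul_mem_Dt g.2 h⟩) := dif_neg h

theorem F1_fibre (g g' : H) (hg : F1 g = F1 g') : g * g'⁻¹ ∈ Psi.range.subgroupOf H := by
  rw [mem_subgroupOf, Subgroup.coe_mul, Subgroup.coe_inv]
  by_cases h : g.1 ∈ Dt <;> by_cases h' : g'.1 ∈ Dt
  · rw [F1_pos h, F1_pos h', Prod.mk.injEq] at hg
    have h5 := range_of_dN hg.2
    exact h5
  · rw [F1_pos h, F1_neg h', Prod.mk.injEq] at hg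
    exact absurd hg.1 (by decide)
  · rw [F1_neg h, F1_pos h', Prod.mk.injEq] at hg
    exact absurd hg.1 (by decide)
  · rw [F1_neg h, F1_neg h', Prod.mk.injEq] at hg
    have h5 := range_of_dN hg.2
    have h6 : g.1 * g'.1⁻¹ = g.1 * gq 1 * (g'.1 * gq 1)⁻¹ := by group
    rw [h6]
    exact h5

theorem card_range : Nat.card ↥(Psi.range.subgroupOf H) = 720 := by
  have h1 : Nat.card ↥(Psi.range.subgroupOf H) = Nat.card ↥Psi.range :=
    Nat.card_congr (subgroupOfEquivOfLe range_le).toEquiv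
  have h2 : Nat.card SE = Nat.card ↥Psi.range := Nat.card_congr (MonoidHom.ofInjective Psi_inj).toEquiv
  have h3 := card_SL_two E
  rw [card_E] at h3
  rw [h1, ← h2]
  exact h3

/-- `|H| ≤ 5760` -/
theorem card_H : Nat.card H ≤ 5760 := by
  have h1 := card_le_of_fibres (Psi.range.subgroupOf H) F1 F1_fibre
  rw [card_range, Nat.card_prod] at h1
  have h2 : Nat.card Bool = 2 := by rw [Nat.card_eq_fintype_card, Fintype.card_bool]
  have h3 := card_Nm
  rw [h2] at h1
  generalize Nat.card Nm = n at *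
  generalize Nat.card H = m at *
  omega

theorem card_center : Nat.card (center (S4 F3)) = 2 := by
  have h : (center (S4 F3) : Set (S4 F3)) = {1, m1} := by
    ext A
    simp only [SetLike.mem_coe, Set.mem_insert_iff, Set.mem_singleton_iff]
    exact mem_center'
  have h2 : Nat.card (center (S4 F3)) = ({1, m1} : Set (S4 F3)).ncard := by
    rw [← h]; rfl
  rw [h2, Set.ncard_pair m1_ne.symm]

theorem card_H' : Nat.card H = 2 * Nat.card (centralizer ({t} : Set L)) := by
  have h1 : H.index = (centralizer ({t} : Set L)).index := Subgroup.index_comap_of_surjective _ pr_surj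
  have h2 := H.card_mul_index
  have h4 := (centralizer ({t} : Set L)).card_mul_index
  have h5 := (center (S4 F3)).card_eq_card_quotient_mul_card_subgroup
  rw [card_center, ← h2, h1] at h5
  have h6 : Nat.card H * (centralizer ({t} : Set L)).index = Nat.card L * 2 := h5
  rw [← h4] at h6
  have h7 : 0 < (centralizer ({t} : Set L)).index := Nat.pos_of_ne_zero index_ne_zero_of_finite
  apply Nat.eq_of_mul_eq_mul_right h7
  rw [h6]; ring

theorem card_cent_le : Nat.card (centralizer ({t} : Set L)) ≤ 2880 := by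
  have h1 := card_H
  rw [card_H'] at h1
  omega

/-- `t` is not 2-central -/
theorem not_central (hL : 128 ∣ Nat.card L) : ¬ IsTwoCentralInvolution t := by
  have : Fact (Nat.Prime 2) := ⟨Nat.prime_two⟩
  rintro ⟨-, P, -, hc⟩
  have h1 : (P : Subgroup L) ≤ centralizer ({t} : Set L) := fun y hy => mem_centralizer_singleton_iff.2 (hc y hy)
  have h2 : 128 ∣ Nat.card (P : Subgroup L) := P.pow_dvd_card_of_pow_dvd_card (n := 7) hL
  have h3 : 128 ∣ Nat.card (centralizer ({t} : Set L)) := h2.trans (card_dvd_of_le h1)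
  have h4 : 360 ∣ Nat.card (centralizer ({t} : Set L)) := card_N ▸ card_dvd_of_le N_le
  have h5 := card_cent_le
  have h6 : 0 < Nat.card (centralizer ({t} : Set L)) := Nat.card_pos
  omega

end Cfsg.Agent.ResEven.LFour

end
end

private theorem dce_27c3cd32b7c5 : _root_.True := by
  try have : _root_.True := by simp only [_root_.Cfsg.Agent.ResEven.FourRank.wz.eq_1]
  try have : _root_.True := by simp only [_root_.Cfsg.Agent.ResEven.FourRank.gf.eq_1]
  try have : _root_.True := by simp only [_root_.Cfsg.Agent.ResEven.LFour.t.eq_1]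
  try have : _root_.True := by simp only [_root_.Cfsg.Agent.ResEven.LFour.fe.eq_1]
  try have : _root_.True := by simp only [_root_.Cfsg.Agent.ResEven.LFour.el.eq_1]
  try have : _root_.True := by simp only [_root_.finSumFinEquiv.eq_1]
  try have : _root_.True := by simp only [_root_.Cfsg.Agent.ResEven.LFour.f.eq_1]
  try have : _root_.True := by simp only [_root_.Cfsg.Agent.ResEven.LFour.t0.eq_1]
  try have : _root_.True := by simp only [_root_.Cfsg.Agent.ResEven.FourRank.gz.eq_1]
  try have : _root_.True := by simp only [_root_.Cfsg.Agent.ResEven.LFour.bas.eq_1]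
  exact _root_.True.intro
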